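import Mathlib
import Cfsg.Agent.S0480U.UComb
import Cfsg.Agent.H853.TDefs

/-!
# S5554, TT7: the conjugation action on a set of type `U n` in coordinates

`Rep E f g φ`: the conjugation with `g` acts on `E` as `φ` acts on the points `⟨f t⟩`.
-/

set_option autoImplicit false

namespace Cfsg.Agent.H832.TT.UAct

open Cfsg Cfsg.Agent.Fischer920.PsuEnd Cfsg.Agent.S0480U.Herm
open Cfsg.Agent.Fischer480.Defs Cfsg.Agent.S0480U.UModel

section

variable {G : Type*} [Group G]
variable {F V : Type*} [Field F] [Fintype F] [AddCommGroup V] [Module F V] {h : V → V → F}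
variable {n : ℕ} {E : Set G} {f : G → V}

/-- the third point of a line -/
theorem f_conj (U : UM h n E f) (hcl : ∀ a ∈ E, ∀ b ∈ E, a * b * a⁻¹ ∈ E)
    (hn : 4 ≤ n) {y z : G} (hy : y ∈ E) (hz : z ∈ E) :
    ∃ k : F, k ≠ 0 ∧ f (y * z * y⁻¹) = k • (f z + h (f z) (f y) • f y) := by
  have H := U.herm
  have hfin := U.fin
  by_cases hc : Commute y z
  · refine ⟨1, one_ne_zero, ?_⟩
    have e1 : y * z * y⁻¹ = z := by rw [hc.eq, mul_inv_cancel_right]
    rw [e1, (U.comm z hz y hy).1 hc.symm, zero_smul, add_zero, one_smul]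
  · have hwE := hcl y hy z hz
    have hyz : h (f y) (f z) ≠ 0 := fun h1 => hc ((U.comm y hy z hz).2 h1)
    have hzy : h (f z) (f y) ≠ 0 := fun h1 => hyz (swap_zero H h1)
    obtain ⟨α, β, hαβ⟩ : ∃ α β : F, f (y * z * y⁻¹) = α • f y + β • f z := by
      by_contra hcon
      push Not at hcon
      obtain ⟨v, hvv, hyv, hzv, huv⟩ := exists_sep_hyp U.card H (by rw [U.dim]; exact hn)
        (U.iso y hy) (U.iso z hz) hyz hcon
      have hv0 : v ≠ 0 := by
        rintro rfl
        exact huv (zero_right H _)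
      obtain ⟨d, hd, c, hc0, hfd⟩ := exists_pt U hv0 hvv
      have hdy : Commute d y := by
        rw [U.comm d hd y hy, hfd, H.smul_left, swap_zero H hyv, mul_zero]
      have hdz : Commute d z := by
        rw [U.comm d hd z hz, hfd, H.smul_left, swap_zero H hzv, mul_zero]
      have hdw := (U.comm d hd _ hwE).1 ((hdy.mul_right hdz).mul_right hdy.inv_right)
      rw [hfd, H.smul_left] at hdw
      rcases mul_eq_zero.1 hdw with h2 | h2
      · exact hc0 h2
      · exact huv (swap_zero H h2)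
    have hβ : β ≠ 0 := by
      rintro rfl
      rw [zero_smul, add_zero] at hαβ
      have h3 := U.inj _ hwE y hy α hαβ
      apply hc
      have h4 : z = y := by
        have h5 : y * z = y * y := mul_inv_eq_iff_eq_mul.1 h3
        exact mul_left_cancel h5
      rw [h4]
    have hα : α ≠ 0 := by
      rintro rfl
      rw [zero_smul, zero_add] at hαβ
      have h3 := U.inj _ hwE z hz β hαβ
      exact hc (mul_inv_eq_iff_eq_mul.1 h3)
    have h0 := U.iso _ hwE
    rw [hαβ, H.add_left, H.smul_left, H.smul_left, add_right U.card H, add_right U.card H,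
      H.smul_right, H.smul_right, H.smul_right, H.smul_right, U.iso y hy, U.iso z hz] at h0
    have hsw := H.swap (f z) (f y)
    rw [hsw] at h0
    have h1 : α * β * h (f z) (f y) * (β * h (f z) (f y) + α) = 0 := by
      linear_combination h0
    have h2 : β * h (f z) (f y) + α = 0 := by
      rcases mul_eq_zero.1 h1 with h3 | h3
      · exact absurd h3 (mul_ne_zero (mul_ne_zero hα hβ) hzy)
      · exact h3
    have h3 : α = β * h (f z) (f y) := by
      have := add_self U.card (β * h (f z) (f y))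
      linear_combination h2 - this
    exact ⟨β, hβ, by rw [hαβ, h3, smul_add, mul_smul, add_comm]⟩

/-- the conjugation with `g` acts on `E` as `φ` on the points -/
def Rep (F : Type*) [Field F] {V : Type*} [AddCommGroup V] [Module F V] (E : Set G) (f : G → V)
    (g : G) (φ : V → V) : Prop :=
  (∀ (k : F) (v : V), φ (k • v) = k • φ v) ∧
    ∀ t ∈ E, g * t * g⁻¹ ∈ E ∧ ∃ k : F, k ≠ 0 ∧ f (g * t * g⁻¹) = k • φ (f t)

omit [Fintype F] in
theorem Rep.mul {g g' : G} {φ φ' : V → V} (h1 : Rep F E f g φ) (h2 : Rep F E f g' φ') :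
    Rep F E f (g * g') (fun v => φ (φ' v)) := by
  refine ⟨fun k v => ?_, fun t ht => ?_⟩
  · change φ (φ' (k • v)) = k • φ (φ' v)
    rw [h2.1, h1.1]
  · obtain ⟨m1, k1, hk1, e1⟩ := h2.2 t ht
    obtain ⟨m2, k2, hk2, e2⟩ := h1.2 _ m1
    have e : g * g' * t * (g * g')⁻¹ = g * (g' * t * g'⁻¹) * g⁻¹ := by group
    rw [e]
    refine ⟨m2, k2 * k1, mul_ne_zero hk2 hk1, ?_⟩
    rw [e2, e1, h1.1, mul_smul]

omit [Fintype F] in
theorem Rep.congr {g : G} {φ ψ : V → V} (h1 : Rep F E f g φ) (e : ∀ v, φ v = ψ v) : Rep F E f g ψ := by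
  have : φ = ψ := funext e
  rwa [← this]

/-- transvections -/
theorem rep_transv (U : UM h n E f) (hcl : ∀ a ∈ E, ∀ b ∈ E, a * b * a⁻¹ ∈ E)
    (hn : 4 ≤ n) {y : G} (hy : y ∈ E) {u : V} {c : F} (hc : c ≠ 0) (hfy : f y = c • u) :
    Rep F E f y (fun v => v + h v u • u) := by
  have H := U.herm
  refine ⟨fun k v => ?_, fun t ht => ⟨hcl y hy t ht, ?_⟩⟩
  · change k • v + h (k • v) u • u = k • (v + h v u • u)
    rw [H.smul_left, smul_add, mul_smul]
  · obtain ⟨k, hk, e⟩ := f_conj U hcl hn hy ht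
    refine ⟨k, hk, ?_⟩
    rw [e, hfy, H.smul_right]
    have h3 := S0480U.Herm.pow_three U.card hc
    have : (c ^ 2 * h (f t) u) • c • u = (c ^ 3) • (h (f t) u • u) := by module
    rw [this, h3, one_smul]

/-- a scalar action is trivial -/
theorem commute_of_rep (U : UM h n E f) {g : G} {φ : V → V} (hr : Rep F E f g φ) {w : F}
    (hφ : ∀ v, φ v = w • v) {t : G} (ht : t ∈ E) : Commute g t := by
  obtain ⟨m, k, hk, e⟩ := hr.2 t ht
  rw [hφ, smul_smul] at e
  have := U.inj _ m t ht _ e
  exact mul_inv_eq_iff_eq_mul.1 this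

end

section Six

variable {G : Type*} [Group G] {F : Type} [Field F] [Fintype F] {E : Set G} {f : G → Fin 6 → F}

omit [Fintype F] in
theorem herm_six (v u : Fin 6 → F) : hermForm 6 F 2 v u = v 0 * u 0 ^ 2 + v 1 * u 1 ^ 2 + v 2 * u 2 ^ 2 +
    v 3 * u 3 ^ 2 + v 4 * u 4 ^ 2 + v 5 * u 5 ^ 2 := by
  simp [hermForm, Fin.sum_univ_succ]
  ring

/-- `x, a, b` and `x', a', b'`: two orthogonal affine planes -/
structure Pl (E : Set G) (x a b : G) : Prop where
  hx : x ∈ E
  ha : a ∈ E
  hb : b ∈ E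
  xa : ¬ Commute x a
  xb : ¬ Commute x b
  ab : ¬ Commute a b
  xab : ¬ Commute (x * a * x) b

theorem exists_planes (U : UM (hermForm 6 F 2) 6 E f) (hcl : ∀ a ∈ E, ∀ b ∈ E, a * b * a⁻¹ ∈ E)
    (hsq : ∀ a ∈ E, a * a = 1) :
    ∃ x a b x' a' b' : G, Pl E x a b ∧ Pl E x' a' b' ∧
      (∀ s ∈ ({x, a, b} : Set G), ∀ s' ∈ ({x', a', b'} : Set G), Commute s s') ∧
      ∀ t ∈ E, Commute ((x * a) * (x * b) * (x * a)⁻¹ * (x * b)⁻¹ *
        ((x' * a') * (x' * b') * (x' * a')⁻¹ * (x' * b')⁻¹)) t := by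
  have hF := U.card
  have hcp := charP hF
  obtain ⟨w, hw, hw0, hw1⟩ := exists_omega hF
  have h2 := two_eq hF
  have hw2 : w ^ 2 = w + 1 := by linear_combination hw - w * h2
  have w3 : w ^ 3 = 1 := S0480U.Herm.pow_three hF hw0
  -- the six points
  obtain ⟨x, hx, cx, hcx, fx⟩ := exists_pt U (v := ![1, 1, 0, 0, 0, 0])
    (fun h1 => one_ne_zero (congrFun h1 0)) (by rw [herm_six]; simp; linear_combination h2)
  obtain ⟨a, ha, ca, hca, fa⟩ := exists_pt U (v := ![1, w, 0, 0, 0, 0])
    (fun h1 => one_ne_zero (congrFun h1 0)) (by rw [herm_six]; simp; linear_combination w3 + h2)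
  obtain ⟨b, hb, cb, hcb, fb⟩ := exists_pt U (v := ![0, 1, 1, 0, 0, 0])
    (fun h1 => one_ne_zero (congrFun h1 1)) (by rw [herm_six]; simp; linear_combination h2)
  obtain ⟨x', hx', cx', hcx', fx'⟩ := exists_pt U (v := ![0, 0, 0, 1, 1, 0])
    (fun h1 => one_ne_zero (congrFun h1 3)) (by rw [herm_six]; simp; linear_combination h2)
  obtain ⟨a', ha', ca', hca', fa'⟩ := exists_pt U (v := ![0, 0, 0, 1, w, 0])
    (fun h1 => one_ne_zero (congrFun h1 3)) (by rw [herm_six]; simp; linear_combination w3 + h2)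
  obtain ⟨b', hb', cb', hcb', fb'⟩ := exists_pt U (v := ![0, 0, 0, 0, 1, 1])
    (fun h1 => one_ne_zero (congrFun h1 4)) (by rw [herm_six]; simp; linear_combination h2)
  have H := U.herm
  have ns : ∀ {s t : G}, s ∈ E → t ∈ E → ∀ {u v : Fin 6 → F} {c d : F}, c ≠ 0 → d ≠ 0 → f s = c • u → f t = d • v →
      hermForm 6 F 2 u v ≠ 0 → ¬ Commute s t := by
    intro s t hs ht u v c d hc hd e1 e2 hne h1
    have h3 := (U.comm s hs t ht).1 h1
    rw [e1, e2, H.smul_left, H.smul_right] at h3
    rcases mul_eq_zero.1 h3 with h4 | h4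
    · exact hc h4
    · rcases mul_eq_zero.1 h4 with h5 | h5
      · exact pow_ne_zero 2 hd h5
      · exact hne h5
  have cs : ∀ {s t : G}, s ∈ E → t ∈ E → ∀ {u v : Fin 6 → F} {c d : F}, f s = c • u → f t = d • v →
      hermForm 6 F 2 u v = 0 → Commute s t := by
    intro s t hs ht u v c d e1 e2 h0
    rw [U.comm s hs t ht, e1, e2, H.smul_left, H.smul_right, h0]
    ring
  -- the action of the six points
  have rx : Rep F E f x (fun v => ![v 1, v 0, v 2, v 3, v 4, v 5]) := by
    refine (rep_transv U hcl (by norm_num) hx hcx fx).congr fun v => ?_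
    rw [herm_six]
    funext i
    fin_cases i <;> simp
    · linear_combination (v 0) * h2
    · linear_combination (v 1) * h2
  have ra : Rep F E f a (fun v => ![w ^ 2 * v 1, w * v 0, v 2, v 3, v 4, v 5]) := by
    refine (rep_transv U hcl (by norm_num) ha hca fa).congr fun v => ?_
    rw [herm_six]
    funext i
    fin_cases i <;> simp
    · linear_combination (v 0) * h2
    · linear_combination (v 1) * w3 + (v 1) * h2
  have rb : Rep F E f b (fun v => ![v 0, v 2, v 1, v 3, v 4, v 5]) := by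
    refine (rep_transv U hcl (by norm_num) hb hcb fb).congr fun v => ?_
    rw [herm_six]
    funext i
    fin_cases i <;> simp
    · linear_combination (v 1) * h2
    · linear_combination (v 2) * h2
  have rx' : Rep F E f x' (fun v => ![v 0, v 1, v 2, v 4, v 3, v 5]) := by
    refine (rep_transv U hcl (by norm_num) hx' hcx' fx').congr fun v => ?_
    rw [herm_six]
    funext i
    fin_cases i <;> simp
    · linear_combination (v 3) * h2
    · linear_combination (v 4) * h2
  have ra' : Rep F E f a' (fun v => ![v 0, v 1, v 2, w ^ 2 * v 4, w * v 3, v 5]) := by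
    refine (rep_transv U hcl (by norm_num) ha' hca' fa').congr fun v => ?_
    rw [herm_six]
    funext i
    fin_cases i <;> simp
    · linear_combination (v 3) * h2
    · linear_combination (v 4) * w3 + (v 4) * h2
  have rb' : Rep F E f b' (fun v => ![v 0, v 1, v 2, v 3, v 5, v 4]) := by
    refine (rep_transv U hcl (by norm_num) hb' hcb' fb').congr fun v => ?_
    rw [herm_six]
    funext i
    fin_cases i <;> simp
    · linear_combination (v 4) * h2
    · linear_combination (v 5) * h2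
  have inv : ∀ {s : G}, s ∈ E → s⁻¹ = s := fun hs => inv_eq_of_mul_eq_one_left (hsq _ hs)
  -- the first central element
  have e1 : (x * a) * (x * b) * (x * a)⁻¹ * (x * b)⁻¹ = (x * a) * (x * b) * (a * x) * (b * x) := by
    rw [mul_inv_rev, mul_inv_rev, inv hx, inv ha, inv hb]
  have e1' : (x' * a') * (x' * b') * (x' * a')⁻¹ * (x' * b')⁻¹ =
      (x' * a') * (x' * b') * (a' * x') * (b' * x') := by
    rw [mul_inv_rev, mul_inv_rev, inv hx', inv ha', inv hb']
  have q1 := (rx.mul ra).congr (ψ := fun v => ![w * v 0, w ^ 2 * v 1, v 2, v 3, v 4, v 5]) (fun v => by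
    funext i; fin_cases i <;> simp)
  have q2 := (rx.mul rb).congr (ψ := fun v => ![v 2, v 0, v 1, v 3, v 4, v 5]) (fun v => by
    funext i; fin_cases i <;> simp)
  have q3 := (ra.mul rx).congr (ψ := fun v => ![w ^ 2 * v 0, w * v 1, v 2, v 3, v 4, v 5]) (fun v => by
    funext i; fin_cases i <;> simp)
  have q4 := (rb.mul rx).congr (ψ := fun v => ![v 1, v 2, v 0, v 3, v 4, v 5]) (fun v => by
    funext i; fin_cases i <;> simp)
  have q5 := (q1.mul q2).congr (ψ := fun v => ![w * v 2, w ^ 2 * v 0, v 1, v 3, v 4, v 5]) (fun v => by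
    funext i; fin_cases i <;> simp)
  have q6 := (q5.mul q3).congr (ψ := fun v => ![w * v 2, w * v 0, w * v 1, v 3, v 4, v 5]) (fun v => by
    funext i; fin_cases i <;> simp
    linear_combination (w * v 0) * w3)
  have rz := (q6.mul q4).congr (ψ := fun v => ![w * v 0, w * v 1, w * v 2, v 3, v 4, v 5]) (fun v => by
    funext i; fin_cases i <;> simp)
  rw [← e1] at rz
  have p1 := (rx'.mul ra').congr (ψ := fun v => ![v 0, v 1, v 2, w * v 3, w ^ 2 * v 4, v 5]) (fun v => by
    funext i; fin_cases i <;> simp)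
  have p2 := (rx'.mul rb').congr (ψ := fun v => ![v 0, v 1, v 2, v 5, v 3, v 4]) (fun v => by
    funext i; fin_cases i <;> simp)
  have p3 := (ra'.mul rx').congr (ψ := fun v => ![v 0, v 1, v 2, w ^ 2 * v 3, w * v 4, v 5]) (fun v => by
    funext i; fin_cases i <;> simp)
  have p4 := (rb'.mul rx').congr (ψ := fun v => ![v 0, v 1, v 2, v 4, v 5, v 3]) (fun v => by
    funext i; fin_cases i <;> simp)
  have p5 := (p1.mul p2).congr (ψ := fun v => ![v 0, v 1, v 2, w * v 5, w ^ 2 * v 3, v 4]) (fun v => by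
    funext i; fin_cases i <;> simp)
  have p6 := (p5.mul p3).congr (ψ := fun v => ![v 0, v 1, v 2, w * v 5, w * v 3, w * v 4]) (fun v => by
    funext i; fin_cases i <;> simp
    linear_combination (w * v 3) * w3)
  have rz' := (p6.mul p4).congr (ψ := fun v => ![v 0, v 1, v 2, w * v 3, w * v 4, w * v 5]) (fun v => by
    funext i; fin_cases i <;> simp)
  rw [← e1'] at rz'
  have hw2' : (1 : F) + w = w ^ 2 := by linear_combination -hw2
  have hww : (1 : F) + w ^ 2 ≠ 0 := by
    intro h0
    apply hw0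
    linear_combination h0 - hw2 - h2
  refine ⟨x, a, b, x', a', b', ?_, ?_, ?_, ?_⟩
  · refine ⟨hx, ha, hb, ns hx ha hcx hca fx fa ?_, ns hx hb hcx hcb fx fb ?_,
      ns ha hb hca hcb fa fb ?_, ?_⟩
    · rw [herm_six]; simpa using hww
    · rw [herm_six]; simp
    · rw [herm_six]; simpa using hw0
    · obtain ⟨m, k, hk, e⟩ := rx.2 a ha
      have e3 : x * a * x = x * a * x⁻¹ := by rw [inv hx]
      rw [e3]
      rw [fa, rx.1, smul_smul] at e
      refine ns m hb (mul_ne_zero hk hca) hcb e fb ?_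
      rw [herm_six]; simp
  · refine ⟨hx', ha', hb', ns hx' ha' hcx' hca' fx' fa' ?_, ns hx' hb' hcx' hcb' fx' fb' ?_,
      ns ha' hb' hca' hcb' fa' fb' ?_, ?_⟩
    · rw [herm_six]; simpa using hww
    · rw [herm_six]; simp
    · rw [herm_six]; simpa using hw0
    · obtain ⟨m, k, hk, e⟩ := rx'.2 a' ha'
      have e3 : x' * a' * x' = x' * a' * x'⁻¹ := by rw [inv hx']
      rw [e3]
      rw [fa', rx'.1, smul_smul] at e
      refine ns m hb' (mul_ne_zero hk hca') hcb' e fb' ?_
      rw [herm_six]; simp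
  · rintro s (rfl | rfl | rfl) s' (rfl | rfl | rfl)
    · exact cs hx hx' fx fx' (by rw [herm_six]; simp)
    · exact cs hx ha' fx fa' (by rw [herm_six]; simp)
    · exact cs hx hb' fx fb' (by rw [herm_six]; simp)
    · exact cs ha hx' fa fx' (by rw [herm_six]; simp)
    · exact cs ha ha' fa fa' (by rw [herm_six]; simp)
    · exact cs ha hb' fa fb' (by rw [herm_six]; simp)
    · exact cs hb hx' fb fx' (by rw [herm_six]; simp)
    · exact cs hb ha' fb fa' (by rw [herm_six]; simp)
    · exact cs hb hb' fb fb' (by rw [herm_six]; simp)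
  · intro t ht
    refine commute_of_rep U (rz.mul rz') (w := w) (fun v => ?_) ht
    funext i
    fin_cases i <;> simp

end Six

end Cfsg.Agent.H832.TT.UAct
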