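import Mathlib
import Cfsg.Agent.H832.TT.UAct

/-!
# S5554, TT7: the sets of Fischer type do not act

No normal set of 3-transpositions acting as on a normal elementary abelian 2-subgroup (`IsTM`) contains a subset of
type `T6`, `T7` or `T8` closed under its own conjugation.
-/

set_option autoImplicit false

namespace Cfsg.Agent.H832.TT.NotT

open Cfsg Cfsg.Agent.Fischer920.PsuEnd Cfsg.Agent.S0480U.Herm
open Cfsg.Agent.Fischer480.Defs Cfsg.Agent.S0480U.UModel Cfsg.Agent.S0480U.UComb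
open Cfsg.Agent.H854.TM Cfsg.Agent.H832.TT.UAct

variable {H : Type*} [Group H]

/-- conjugates inside `Loc E y` -/
theorem loc_conj {E : Set H} (hc : ∀ a ∈ E, ∀ b ∈ E, a * b * a⁻¹ ∈ E) (y : H) :
    ∀ a ∈ Loc E y, ∀ b ∈ Loc E y, a * b * a⁻¹ ∈ Loc E y := by
  rintro a ⟨ha, -, hya⟩ b ⟨hb, hby, hyb⟩
  refine ⟨hc a ha b hb, fun h1 => hby ?_, (hya.mul_right hyb).mul_right hya.inv_right⟩
  have h2 : b = a⁻¹ * y * a := by rw [← h1]; group
  rw [h2, mul_assoc, hya.eq, inv_mul_cancel_left]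

/-- the double perp of a hyperbolic line -/
theorem third_of_perp {E : Set H} {n : ℕ} (hn : 4 ≤ n) (hU : IsU n E)
    (hcl : ∀ a ∈ E, ∀ b ∈ E, a * b * a⁻¹ ∈ E) {y e e' : H} (hy : y ∈ E) (he : e ∈ E)
    (he' : e' ∈ E) (hye : ¬ Commute y e) (hp : ∀ u ∈ E, Commute u y → Commute u e → Commute u e') :
    e' = y ∨ e' = e ∨ e' = y * e * y⁻¹ := by
  obtain ⟨F, i1, i2, f, U⟩ := exists_um hU
  have HH := U.herm
  have hfin := U.fin
  have hyz : hermForm n F 2 (f y) (f e) ≠ 0 := fun h1 => hye ((U.comm y hy e he).2 h1)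
  obtain ⟨α, β, hαβ⟩ : ∃ α β : F, f e' = α • f y + β • f e := by
    by_contra hcon
    push Not at hcon
    obtain ⟨v, hvv, hyv, hzv, huv⟩ := exists_sep_hyp U.card HH (by rw [U.dim]; exact hn)
      (U.iso y hy) (U.iso e he) hyz hcon
    have hv0 : v ≠ 0 := by
      rintro rfl
      exact huv (zero_right HH _)
    obtain ⟨d, hd, c, hc0, hfd⟩ := exists_pt U hv0 hvv
    have hdy : Commute d y := by
      rw [U.comm d hd y hy, hfd, HH.smul_left, swap_zero HH hyv, mul_zero]
    have hdz : Commute d e := by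
      rw [U.comm d hd e he, hfd, HH.smul_left, swap_zero HH hzv, mul_zero]
    have hdw := (U.comm d hd _ he').1 (hp d hd hdy hdz)
    rw [hfd, HH.smul_left] at hdw
    rcases mul_eq_zero.1 hdw with h2 | h2
    · exact hc0 h2
    · exact huv (swap_zero HH h2)
  by_cases hβ : β = 0
  · left
    rw [hβ, zero_smul, add_zero] at hαβ
    exact U.inj _ he' y hy α hαβ
  by_cases hα : α = 0
  · right; left
    rw [hα, zero_smul, zero_add] at hαβ
    exact U.inj _ he' e he β hαβ
  right; right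
  have hzy : hermForm n F 2 (f e) (f y) ≠ 0 := fun h1 => hyz (swap_zero HH h1)
  have h0 := U.iso _ he'
  rw [hαβ, HH.add_left, HH.smul_left, HH.smul_left, add_right U.card HH, add_right U.card HH,
    HH.smul_right, HH.smul_right, HH.smul_right, HH.smul_right, U.iso y hy, U.iso e he] at h0
  have hsw := HH.swap (f e) (f y)
  rw [hsw] at h0
  have h1 : α * β * hermForm n F 2 (f e) (f y) * (β * hermForm n F 2 (f e) (f y) + α) = 0 := by
    linear_combination h0
  have h2 : β * hermForm n F 2 (f e) (f y) + α = 0 := by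
    rcases mul_eq_zero.1 h1 with h3 | h3
    · exact absurd h3 (mul_ne_zero (mul_ne_zero hα hβ) hzy)
    · exact h3
  have h3 : α = β * hermForm n F 2 (f e) (f y) := by
    have := S0480U.Herm.add_self U.card (β * hermForm n F 2 (f e) (f y))
    linear_combination h2 - this
  obtain ⟨k, hk, e1⟩ := f_conj U hcl hn hy he
  apply U.inj _ he' _ (hcl y hy e he) (β * k⁻¹)
  have e2 : (β * k⁻¹) • k • (f e + hermForm n F 2 (f e) (f y) • f y) =
      β • (f e + hermForm n F 2 (f e) (f y) • f y) := by rw [mul_smul, inv_smul_smul₀ hk]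
  rw [e1, hαβ, h3, e2]
  module

theorem cube_mul {s t : H} (hs : s * s * s = 1) (ht : t * t * t = 1) (hst : Commute s t) :
    s * t * (s * t) * (s * t) = 1 := by
  calc s * t * (s * t) * (s * t) = s * (t * s) * t * (s * t) := by simp only [mul_assoc]
    _ = s * (s * t) * t * (s * t) := by rw [hst.eq]
    _ = s * s * (t * (t * s)) * t := by simp only [mul_assoc]
    _ = s * s * (t * (s * t)) * t := by rw [hst.eq]
    _ = s * s * ((t * s) * t) * t := by simp only [mul_assoc]
    _ = s * s * ((s * t) * t) * t := by rw [hst.eq]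
    _ = (s * s * s) * (t * t * t) := by simp only [mul_assoc]
    _ = 1 := by rw [hs, ht, one_mul]

/-- the fixed points form a subgroup -/
theorem fix_mul {M : Type*} [AddCommGroup M] [DistribMulAction H M] {g g' : H} {m : M}
    (h : g • m = m) (h' : g' • m = m) : (g * g') • m = m := by rw [mul_smul, h', h]

theorem fix_inv {M : Type*} [AddCommGroup M] [DistribMulAction H M] {g : H} {m : M}
    (h : g • m = m) : g⁻¹ • m = m := by rw [inv_smul_eq_iff, h]

variable [Finite H] {D E : Set H} {M : Type*} [AddCommGroup M] [DistribMulAction H M]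

theorem not_t6 (hM : IsTM D M) (hne : ∀ x ∈ D, ∃ m : M, m + x • m ≠ 0) (hE : E ⊆ D)
    (hc : ∀ a ∈ E, ∀ b ∈ E, a * b * a⁻¹ ∈ E) (hT : IsT6 E) : False := by
  classical
  obtain ⟨hcard, hloc, hcom⟩ := hT
  obtain ⟨y, hy⟩ : E.Nonempty := by
    rw [Set.nonempty_iff_ne_empty]
    rintro rfl
    rw [Set.ncard_empty] at hcard
    omega
  have hcl := loc_conj hc y
  have hLD : Loc E y ⊆ D := fun t ht => hE ht.1
  obtain ⟨F, i1, i2, f, U⟩ := exists_um (hloc y hy)
  obtain ⟨x, a, b, x', a', b', P, P', hperp, hz⟩ := exists_planes U hcl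
    (fun t ht => hM.sq t (hLD ht))
  obtain ⟨ζ, hζ⟩ : ∃ ζ, ζ = (x * a) * (x * b) * (x * a)⁻¹ * (x * b)⁻¹ := ⟨_, rfl⟩
  obtain ⟨ζ', hζ'⟩ : ∃ ζ', ζ' = (x' * a') * (x' * b') * (x' * a')⁻¹ * (x' * b')⁻¹ := ⟨_, rfl⟩
  rw [← hζ, ← hζ'] at hz
  have A : Aff D x a b := ⟨hLD P.hx, hLD P.ha, hLD P.hb, P.xa, P.xb, P.ab, P.xab⟩
  have A' : Aff D x' a' b' := ⟨hLD P'.hx, hLD P'.ha, hLD P'.hb, P'.xa, P'.xb, P'.ab, P'.xab⟩
  have c1 : ∀ s ∈ ({x, a, b} : Set H), Commute s ζ' := by
    intro s hs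
    rw [hζ']
    have h1 := hperp s hs x' (Or.inl rfl)
    have h2 := hperp s hs a' (Or.inr (Or.inl rfl))
    have h3 := hperp s hs b' (Or.inr (Or.inr rfl))
    exact (((h1.mul_right h2).mul_right (h1.mul_right h3)).mul_right
      (h1.mul_right h2).inv_right).mul_right (h1.mul_right h3).inv_right
  have c2 : Commute ζ ζ' := by
    have h1 := c1 x (Or.inl rfl)
    have h2 := c1 a (Or.inr (Or.inl rfl))
    have h3 := c1 b (Or.inr (Or.inr rfl))
    rw [hζ]
    exact (((h1.mul_left h2).mul_left (h1.mul_left h3)).mul_left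
      (h1.mul_left h2).inv_left).mul_left (h1.mul_left h3).inv_left
  have hz3 : ζ * ζ' * (ζ * ζ') * (ζ * ζ') = 1 := by
    have h1 := (A.zeta_spec hM).2.2
    have h2 := (A'.zeta_spec hM).2.2
    refine cube_mul ?_ ?_ c2
    · rw [hζ]; exact h1
    · rw [hζ']; exact h2
  -- `z` acts trivially on `[M, y]`
  have fy : ∀ t ∈ Loc E y, ∀ m : M, t • (m + y • m) = m + y • m := fun t ht m =>
    hM.comm y (hE hy) t (hLD ht) ht.2.2.eq m
  have fz : ∀ m : M, (ζ * ζ') • (m + y • m) = m + y • m := by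
    intro m
    have hx := fy x P.hx m
    have ha := fy a P.ha m
    have hb := fy b P.hb m
    have hx' := fy x' P'.hx m
    have ha' := fy a' P'.ha m
    have hb' := fy b' P'.hb m
    rw [hζ, hζ']
    exact fix_mul (fix_mul (fix_mul (fix_mul (fix_mul hx ha) (fix_mul hx hb))
      (fix_inv (fix_mul hx ha))) (fix_inv (fix_mul hx hb)))
      (fix_mul (fix_mul (fix_mul (fix_mul hx' ha') (fix_mul hx' hb'))
      (fix_inv (fix_mul hx' ha'))) (fix_inv (fix_mul hx' hb')))
  -- `z` has no fixed points on `[M, a]`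
  have fa : ∀ m : M, (ζ * ζ') • (m + a • m) = m + a • m → m + a • m = 0 := by
    intro m hm
    have h1 : ∀ s' ∈ ({x', a', b'} : Set H), s' ∈ D → s' • (m + a • m) = m + a • m := fun s' hs' hD =>
      hM.comm a A.hg s' hD (hperp a (Or.inr (Or.inl rfl)) s' hs').eq m
    have hx' := h1 x' (Or.inl rfl) A'.hf
    have ha' := h1 a' (Or.inr (Or.inl rfl)) A'.hg
    have hb' := h1 b' (Or.inr (Or.inr rfl)) A'.hh
    have h2 : ζ' • (m + a • m) = m + a • m := by
      rw [hζ']
      exact fix_mul (fix_mul (fix_mul (fix_mul hx' ha') (fix_mul hx' hb'))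
        (fix_inv (fix_mul hx' ha'))) (fix_inv (fix_mul hx' hb'))
    rw [mul_smul, h2] at hm
    have h3 : x • (m + a • m) = m + a • m := A.fix_f hM (by rw [hζ] at hm; exact hm)
    exact hM.eq_zero_of_fix A.hg A.hf (fun e => A.fg e.symm) rfl h3
  -- an element adjacent to `y` and `a`
  have hfin : E.Finite := Set.toFinite E
  obtain ⟨e, he, hye, hae⟩ : ∃ e ∈ E, ¬ Commute y e ∧ ¬ Commute a e := by
    by_contra hcon
    push Not at hcon
    have hsub : E ⊆ (insert y (Loc E y)) ∪ (insert a (Loc E a)) := by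
      intro e he
      by_cases h1 : Commute y e
      · left
        by_cases h2 : e = y
        · exact Or.inl h2
        · exact Or.inr ⟨he, h2, h1⟩
      · right
        by_cases h2 : e = a
        · exact Or.inl h2
        · exact Or.inr ⟨he, h2, hcon e he h1⟩
    have n1 := ncard_six (hloc y hy)
    have n2 := ncard_six (hloc a P.ha.1)
    have h1 := Set.ncard_le_ncard hsub (Set.toFinite _)
    have h2 := Set.ncard_union_le (insert y (Loc E y)) (insert a (Loc E a))
    have h3 := Set.ncard_insert_le y (Loc E y)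
    have h4 := Set.ncard_insert_le a (Loc E a)
    omega
  -- `z` commutes with `e`
  have hzE : ∀ t ∈ E, (ζ * ζ') * t * (ζ * ζ')⁻¹ ∈ E := by
    have hmul : ∀ g g' : H, (∀ t ∈ E, g * t * g⁻¹ ∈ E) → (∀ t ∈ E, g' * t * g'⁻¹ ∈ E) →
        ∀ t ∈ E, (g * g') * t * (g * g')⁻¹ ∈ E := by
      intro g g' h1 h2 t ht
      have : g * g' * t * (g * g')⁻¹ = g * (g' * t * g'⁻¹) * g⁻¹ := by group
      rw [this]
      exact h1 _ (h2 t ht)
    have inv : ∀ {s : H}, s ∈ D → s⁻¹ = s := fun hs => inv_eq_of_mul_eq_one_left (hM.sq _ hs)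
    have hx := hc x P.hx.1
    have ha := hc a P.ha.1
    have hb := hc b P.hb.1
    have hx' := hc x' P'.hx.1
    have ha' := hc a' P'.ha.1
    have hb' := hc b' P'.hb.1
    rw [hζ, hζ', mul_inv_rev x a, mul_inv_rev x b, mul_inv_rev x' a', mul_inv_rev x' b', inv A.hf,
      inv A.hg, inv A.hh, inv A'.hf, inv A'.hg, inv A'.hh]
    exact hmul _ _ (hmul _ _ (hmul _ _ (hmul _ _ (hmul _ _ hx ha) (hmul _ _ hx hb))
      (hmul _ _ ha hx)) (hmul _ _ hb hx)) (hmul _ _ (hmul _ _ (hmul _ _ (hmul _ _ hx' ha')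
      (hmul _ _ hx' hb')) (hmul _ _ ha' hx')) (hmul _ _ hb' hx'))
  have hyz : Commute y (ζ * ζ') := by
    have hx := P.hx.2.2
    have ha := P.ha.2.2
    have hb := P.hb.2.2
    have hx' := P'.hx.2.2
    have ha' := P'.ha.2.2
    have hb' := P'.hb.2.2
    rw [hζ, hζ']
    exact ((((hx.mul_right ha).mul_right (hx.mul_right hb)).mul_right
      (hx.mul_right ha).inv_right).mul_right (hx.mul_right hb).inv_right).mul_right
      ((((hx'.mul_right ha').mul_right (hx'.mul_right hb')).mul_right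
      (hx'.mul_right ha').inv_right).mul_right (hx'.mul_right hb').inv_right)
  obtain ⟨z, hzd⟩ : ∃ z, z = ζ * ζ' := ⟨_, rfl⟩
  rw [← hzd] at hz3 fz fa hzE hyz hz
  have hyinv : y⁻¹ = y := inv_eq_of_mul_eq_one_left (hM.sq _ (hE hy))
  -- conjugates of `e`
  have hconj : ∀ g ∈ E, ¬ Commute y g → (z * g * z⁻¹ = g ∨ z * g * z⁻¹ = y * g * y⁻¹) := by
    intro g hg hyg
    obtain ⟨c', hc'⟩ : (Com E y g).Nonempty := by
      rw [Set.nonempty_iff_ne_empty]
      intro h0
      have h1 := hcom y hy g hg hyg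
      rw [h0, Set.ncard_empty] at h1
      omega
    obtain ⟨hc'E, hyc', hgc'⟩ := hc'
    have hc'y : c' ∈ Loc E y := ⟨hc'E, fun h1 => hyg (by rw [← h1]; exact hgc'.symm), hyc'⟩
    have hyL : y ∈ Loc E c' := ⟨hy, fun h1 => hyg (by rw [h1]; exact hgc'.symm), hyc'.symm⟩
    have hgL : g ∈ Loc E c' := ⟨hg, fun h1 => hyg (by rw [h1]; exact hyc'), hgc'.symm⟩
    have key : ∀ u : H, Commute z u → Commute u g → Commute u (z * g * z⁻¹) := by
      intro u h1 h2
      exact (h1.symm.mul_right h2).mul_right h1.symm.inv_right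
    have hg' : z * g * z⁻¹ ∈ Loc E c' := by
      refine ⟨hzE g hg, ?_, key c' (hz c' hc'y) hgc'.symm⟩
      intro h1
      apply hgL.2.1
      have h2 : z * c' * z⁻¹ = c' := by rw [(hz c' hc'y).eq, mul_inv_cancel_right]
      have h3 : z * g * z⁻¹ = z * c' * z⁻¹ := by rw [h2, h1]
      exact mul_left_cancel (mul_right_cancel h3)
    have hp : ∀ u ∈ Loc E c', Commute u y → Commute u g → Commute u (z * g * z⁻¹) := by
      intro u hu huy hug
      have huL : u ∈ Loc E y := ⟨hu.1, fun h1 => hyg (by rw [← h1]; exact hug), huy.symm⟩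
      exact key u (hz u huL) hug
    rcases third_of_perp (by norm_num) (hloc c' hc'E) (loc_conj hc c') hyL hgL hg' hyg hp with
      h1 | h1 | h1
    · exfalso
      apply hyg
      have h2 : g = y := by
        have h3 : z * y * z⁻¹ = y := by rw [← hyz.eq, mul_inv_cancel_right]
        have h4 : z * g * z⁻¹ = z * y * z⁻¹ := by rw [h1, h3]
        exact mul_left_cancel (mul_right_cancel h4)
      rw [h2]
    · exact Or.inl h1
    · exact Or.inr h1
  have hze : z * e * z⁻¹ = e := by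
    rcases hconj e he hye with h1 | h1
    · exact h1
    · exfalso
      -- `z` interchanges `e` and `y e y`
      have h2 : z * (z * e * z⁻¹) * z⁻¹ = e := by
        rw [h1]
        have h3 : z * (y * e * y⁻¹) * z⁻¹ = y * (z * e * z⁻¹) * y⁻¹ := by
          calc z * (y * e * y⁻¹) * z⁻¹ = (z * y) * e * (y⁻¹ * z⁻¹) := by simp only [mul_assoc]
            _ = (y * z) * e * (z⁻¹ * y⁻¹) := by rw [← hyz.eq, ← hyz.inv_inv.eq]
            _ = y * (z * e * z⁻¹) * y⁻¹ := by simp only [mul_assoc]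
        rw [h3, h1]
        calc y * (y * e * y⁻¹) * y⁻¹ = (y * y) * e * (y⁻¹ * y⁻¹) := by simp only [mul_assoc]
          _ = e := by rw [hyinv, hM.sq y (hE hy), one_mul, mul_one]
      have h4 : z * (z * (z * e * z⁻¹) * z⁻¹) * z⁻¹ = e := by
        calc z * (z * (z * e * z⁻¹) * z⁻¹) * z⁻¹ = (z * z * z) * e * (z * z * z)⁻¹ := by group
          _ = e := by rw [hz3]; group
      rw [h2] at h4
      apply hye
      rw [h4] at h1
      have h5 : e * y = y * e := by
        calc e * y = (y * e * y⁻¹) * y := by rw [← h1]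
          _ = y * e := by group
      exact h5.symm
  have hze' : z * e = e * z := mul_inv_eq_iff_eq_mul.1 hze
  -- `z` acts trivially on `[M, e]`
  have fe : ∀ m : M, z • (m + e • m) = m + e • m := by
    intro m
    obtain ⟨v, hv⟩ : ∃ v, v = m + e • m := ⟨_, rfl⟩
    obtain ⟨n, hn⟩ : ∃ n, n = z • v + v := ⟨_, rfl⟩
    have h1 : z • (v + y • v) = v + y • v := fz v
    have h2 : y • n = n := by
      rw [smul_add] at h1
      rw [hn, smul_add, smul_smul, hyz.eq, mul_smul]
      apply hM.eq_of_add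
      calc z • y • v + y • v + (z • v + v) = (z • v + z • y • v) + (v + y • v) := by abel
        _ = 0 := by rw [h1, hM.two]
    have h3 : n = (z • m + m) + e • (z • m + m) := by
      rw [hn, hv, smul_add, smul_add, smul_smul, smul_smul, hze']
      abel
    have h4 : n = 0 := hM.eq_zero_of_fix (hE he) (hE hy) (fun h => hye h.symm) h3 h2
    rw [← hv]
    rw [hn] at h4
    exact hM.eq_of_add h4
  -- `[M, e] = 0`
  obtain ⟨m, hm⟩ := hne e (hE he)
  apply hm
  have h1 := fe m
  obtain ⟨v, hv⟩ : ∃ v, v = m + e • m := ⟨_, rfl⟩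
  rw [← hv] at h1 ⊢
  have h2 : v + a • v = 0 := by
    apply fa
    rw [smul_add, smul_smul, (hz a P.ha).eq, mul_smul, h1]
  have h3 : a • v = v := (hM.eq_of_add h2).symm
  exact hM.eq_zero_of_fix (hE he) A.hg (fun h => hae h.symm) hv h3

theorem not_t7 (hM : IsTM D M) (hne : ∀ x ∈ D, ∃ m : M, m + x • m ≠ 0) (hE : E ⊆ D)
    (hc : ∀ a ∈ E, ∀ b ∈ E, a * b * a⁻¹ ∈ E) (hT : IsT7 E) : False := by
  obtain ⟨hcard, hloc, hcom⟩ := hT
  obtain ⟨y, hy⟩ : E.Nonempty := by
    rw [Set.nonempty_iff_ne_empty]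
    rintro rfl
    rw [Set.ncard_empty] at hcard
    omega
  exact not_t6 hM hne (fun t ht => hE ht.1) (loc_conj hc y) (hloc y hy)

theorem not_t8 (hM : IsTM D M) (hne : ∀ x ∈ D, ∃ m : M, m + x • m ≠ 0) (hE : E ⊆ D)
    (hc : ∀ a ∈ E, ∀ b ∈ E, a * b * a⁻¹ ∈ E) (hT : IsT8 E) : False := by
  obtain ⟨hcard, hloc, hcom⟩ := hT
  obtain ⟨y, hy⟩ : E.Nonempty := by
    rw [Set.nonempty_iff_ne_empty]
    rintro rfl
    rw [Set.ncard_empty] at hcard
    omega
  exact not_t7 hM hne (fun t ht => hE ht.1) (loc_conj hc y) (hloc y hy)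

end Cfsg.Agent.H832.TT.NotT
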